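import Mathlib
import Cfsg.Agent.Helper9.Lat.ShortVec

/-!
Coordinates with respect to a frame of 24 pairwise orthogonal vectors of norm 8.
-/

set_option autoImplicit false

namespace Cfsg.Agent.Helper9.LeechChar

open Cfsg.Agent.Helper9.ShortVec

section

variable (b : (Fin 24 → ℤ) →ₗ[ℤ] (Fin 24 → ℤ) →ₗ[ℤ] ℤ) (v : Fin 24 → (Fin 24 → ℤ))

/-- the coordinates of a vector: its inner products with the vectors of the frame. -/
def coord : (Fin 24 → ℤ) →ₗ[ℤ] (Fin 24 → ℤ) := LinearMap.pi (fun i => b.flip (v i))

theorem coord_apply (x : Fin 24 → ℤ) (i : Fin 24) : coord b v x i = b x (v i) := rfl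

variable (hsymm : ∀ x y, b x y = b y x) (hpos : ∀ x, x ≠ 0 → 0 < b x x)
  (hv8 : ∀ i, b (v i) (v i) = 8) (hvo : ∀ i j, i ≠ j → b (v i) (v j) = 0)

include hsymm hpos hv8 hvo in
theorem ortho_zero {y : Fin 24 → ℤ} (hy : ∀ i, b y (v i) = 0) : y = 0 := by
  by_contra hne
  have hv0 : ∀ i, v i ≠ 0 := by
    intro i h
    have h1 := hv8 i
    rw [h] at h1
    simp only [map_zero] at h1
    omega
  have hli := linIndep b hpos (fun o : Option (Fin 24) => o.elim y v) (by
      intro o
      cases o with
      | none => exact hne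
      | some i => exact hv0 i) (by
      intro o o' hoo
      cases o with
      | none =>
        cases o' with
        | none => exact absurd rfl hoo
        | some j => exact hy j
      | some i =>
        cases o' with
        | none =>
          show b (v i) y = 0
          rw [hsymm]
          exact hy i
        | some j => exact hvo i j (fun h => hoo (by rw [h])))
  have h1 := hli.fintype_card_le_finrank
  rw [Module.finrank_fin_fun, Fintype.card_option, Fintype.card_fin] at h1
  omega

include hsymm hpos hv8 hvo in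
theorem eight_smul (x : Fin 24 → ℤ) : (8 : ℤ) • x = ∑ i, coord b v x i • v i := by
  rw [← sub_eq_zero]
  apply ortho_zero b v hsymm hpos hv8 hvo
  intro j
  rw [map_sub, LinearMap.sub_apply, map_smul, LinearMap.smul_apply, map_sum, LinearMap.sum_apply,
    Finset.sum_eq_single j]
  · rw [map_smul, LinearMap.smul_apply, hv8 j, coord_apply, smul_eq_mul, smul_eq_mul]
    ring
  · intro i _ hij
    rw [map_smul, LinearMap.smul_apply, hvo i j hij, smul_zero]
  · intro h
    exact absurd (Finset.mem_univ j) h

include hsymm hpos hv8 hvo in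
theorem dot_coord (x y : Fin 24 → ℤ) : ∑ i, coord b v x i * coord b v y i = 8 * b x y := by
  have h1 : b ((8 : ℤ) • x) y = 8 * b x y := by
    rw [map_smul, LinearMap.smul_apply, smul_eq_mul]
  rw [← h1, eight_smul b v hsymm hpos hv8 hvo x, map_sum, LinearMap.sum_apply]
  apply Finset.sum_congr rfl
  intro i _
  rw [map_smul, LinearMap.smul_apply, smul_eq_mul, hsymm (v i) y, coord_apply b v y i]

include hsymm hpos hv8 hvo in
theorem coord_injective : Function.Injective (coord b v) := by
  rw [← LinearMap.ker_eq_bot, LinearMap.ker_eq_bot']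
  intro x hx
  by_contra hne
  have h1 := dot_coord b v hsymm hpos hv8 hvo x x
  rw [hx] at h1
  simp only [Pi.zero_apply, mul_zero, Finset.sum_const_zero] at h1
  have h3 := hpos x hne
  omega

include hv8 hvo in
theorem coord_frame (j : Fin 24) : coord b v (v j) = Pi.single j (8 : ℤ) := by
  funext i
  rw [coord_apply]
  by_cases h : i = j
  · subst h
    rw [hv8, Pi.single_eq_same]
  · rw [Pi.single_eq_of_ne h, hvo j i (Ne.symm h)]

include hv8 hvo in
theorem coord_half {i j : Fin 24} {z : Fin 24 → ℤ} (hz : v i - v j = (2 : ℤ) • z) :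
    coord b v z = Pi.single i (4 : ℤ) - Pi.single j 4 := by
  have h1 : (2 : ℤ) • coord b v z = Pi.single i (8 : ℤ) - Pi.single j 8 := by
    rw [← map_smul, ← hz, map_sub, coord_frame b v hv8 hvo, coord_frame b v hv8 hvo]
  funext k
  have h3 := congrFun h1 k
  simp only [Pi.smul_apply, Pi.sub_apply, smul_eq_mul, Pi.single_apply] at h3 ⊢
  split_ifs at h3 ⊢ <;> omega

theorem coord_parity {i j : Fin 24} {z : Fin 24 → ℤ} (hz : v i - v j = (2 : ℤ) • z)
    (x : Fin 24 → ℤ) : (2 : ℤ) ∣ coord b v x i - coord b v x j := by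
  refine ⟨b x z, ?_⟩
  rw [coord_apply, coord_apply, ← map_sub, hz, map_smul, smul_eq_mul]

end

end Cfsg.Agent.Helper9.LeechChar
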