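import Mathlib
import Cfsg.Agent.Helper9.Lat.ShortVec

/-!
A frame of 24 pairwise orthogonal vectors of norm 8, pairwise congruent modulo twice the lattice,
in an even positive definite rank-24 form without roots having the vector counts of the Leech
lattice.
-/

set_option autoImplicit false

namespace Cfsg.Agent.Helper9.LeechChar

open Cfsg.Agent.Helper9.ShortVec

section

variable (b : (Fin 24 → ℤ) →ₗ[ℤ] (Fin 24 → ℤ) →ₗ[ℤ] ℤ)

variable (hsymm : ∀ x y, b x y = b y x) (hpos : ∀ x, x ≠ 0 → 0 < b x x)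
  (heven : ∀ x, (2 : ℤ) ∣ b x x) (h2 : ∀ x, b x x ≠ 2)

include hsymm hpos heven h2 in
theorem exists_frame (h4 : {x : Fin 24 → ℤ | b x x = 4}.ncard = 196560)
    (h6 : {x : Fin 24 → ℤ | b x x = 6}.ncard = 16773120)
    (h8 : {x : Fin 24 → ℤ | b x x = 8}.ncard = 398034000) :
    ∃ v : Fin 24 → (Fin 24 → ℤ), (∀ i, b (v i) (v i) = 8) ∧
      (∀ i j, i ≠ j → b (v i) (v j) = 0) ∧ (∀ i j, red (v i) = red (v j)) := by
  classical
  have hne : {x : Fin 24 → ℤ | b x x = 8}.Nonempty := by
    apply Set.nonempty_of_ncard_ne_zero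
    rw [h8]
    norm_num
  obtain ⟨x, hx⟩ := hne
  have hx' : b x x = 8 := hx
  have hF := main_abs b hsymm hpos heven h2 h4 h6 h8 x hx'
  have fF : {y : Fin 24 → ℤ | b y y = 8 ∧ red x = red y}.Finite :=
    Set.finite_of_ncard_ne_zero (by rw [hF]; norm_num)
  have cs : fF.toFinset.card = 48 := by rw [← hF, Set.ncard_eq_toFinset_card _ fF]
  have ms : ∀ y, y ∈ fF.toFinset ↔ (b y y = 8 ∧ red x = red y) := fun y => by
    rw [Set.Finite.mem_toFinset, Set.mem_ofPred_eq]
  generalize fF.toFinset = s at cs ms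
  have h8s : ∀ y ∈ s, b y y = 8 := fun y hy => ((ms y).mp hy).1
  have hcl : ∀ y ∈ s, ∀ y' ∈ s, red y = red y' := fun y hy y' hy' =>
    ((ms y).mp hy).2.symm.trans ((ms y').mp hy').2
  have hne0 : ∀ y ∈ s, y ≠ 0 := by
    intro y hy h
    have h1 := h8s y hy
    rw [h] at h1
    simp only [map_zero] at h1
    omega
  have hPo : ∀ y ∈ s.filter (fun y => (0 : Lex (Fin 24 → ℤ)) < toLex y),
      ∀ y' ∈ s.filter (fun y => (0 : Lex (Fin 24 → ℤ)) < toLex y), y ≠ y' → b y y' = 0 := by
    intro y hy y' hy' hne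
    rw [Finset.mem_filter] at hy hy'
    have hne' : y ≠ -y' := by
      intro h
      have h3 : toLex y = -toLex y' := by rw [h]; rfl
      have h4 := hy.2
      rw [h3, neg_pos] at h4
      exact lt_asymm h4 hy'.2
    exact (key b hsymm hpos heven h2 (h8s y hy.1).le (h8s y' hy'.1).le
      (hcl y hy.1 y' hy'.1) hne hne').2.2
  have hP : (s.filter (fun y => (0 : Lex (Fin 24 → ℤ)) < toLex y)).card ≤ 24 := by
    apply card_le_of_ortho b hpos
    · intro y hy
      exact hne0 y (Finset.mem_filter.mp hy).1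
    · exact hPo
  have hN : (s.filter (fun y => toLex y < (0 : Lex (Fin 24 → ℤ)))).card ≤ 24 := by
    apply card_le_of_ortho b hpos
    · intro y hy
      exact hne0 y (Finset.mem_filter.mp hy).1
    · intro y hy y' hy' hne
      rw [Finset.mem_filter] at hy hy'
      have hne' : y ≠ -y' := by
        intro h
        have h3 : toLex y = -toLex y' := by rw [h]; rfl
        have h4 := hy.2
        rw [h3, neg_lt_zero] at h4
        exact lt_asymm h4 hy'.2
      exact (key b hsymm hpos heven h2 (h8s y hy.1).le (h8s y' hy'.1).le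
        (hcl y hy.1 y' hy'.1) hne hne').2.2
  have hsub : s ⊆ s.filter (fun y => (0 : Lex (Fin 24 → ℤ)) < toLex y) ∪
      s.filter (fun y => toLex y < (0 : Lex (Fin 24 → ℤ))) := by
    intro y hy
    have hy0 : toLex y ≠ (0 : Lex (Fin 24 → ℤ)) := by
      intro h
      exact hne0 y hy (toLex.injective h)
    rw [Finset.mem_union, Finset.mem_filter, Finset.mem_filter]
    rcases lt_or_gt_of_ne hy0 with h | h
    · exact Or.inr ⟨hy, h⟩
    · exact Or.inl ⟨hy, h⟩
  have hcP : (s.filter (fun y => (0 : Lex (Fin 24 → ℤ)) < toLex y)).card = 24 := by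
    have h1 := Finset.card_le_card hsub
    have h3 := Finset.card_union_le (s.filter (fun y => (0 : Lex (Fin 24 → ℤ)) < toLex y))
      (s.filter (fun y => toLex y < (0 : Lex (Fin 24 → ℤ))))
    omega
  have hP8 : ∀ y ∈ s.filter (fun y => (0 : Lex (Fin 24 → ℤ)) < toLex y), b y y = 8 :=
    fun y hy => h8s y (Finset.mem_filter.mp hy).1
  have hPcl : ∀ y ∈ s.filter (fun y => (0 : Lex (Fin 24 → ℤ)) < toLex y),
      ∀ y' ∈ s.filter (fun y => (0 : Lex (Fin 24 → ℤ)) < toLex y), red y = red y' :=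
    fun y hy y' hy' => hcl y (Finset.mem_filter.mp hy).1 y' (Finset.mem_filter.mp hy').1
  generalize s.filter (fun y => (0 : Lex (Fin 24 → ℤ)) < toLex y) = P at hPo hcP hP8 hPcl
  let e : P ≃ Fin 24 := Finset.equivFinOfCardEq hcP
  refine ⟨fun i => ((e.symm i : P) : Fin 24 → ℤ), fun i => hP8 _ (e.symm i).2, ?_,
    fun i j => hPcl _ (e.symm i).2 _ (e.symm j).2⟩
  intro i j hij
  apply hPo _ (e.symm i).2 _ (e.symm j).2
  intro h
  exact hij (e.symm.injective (Subtype.ext h))

end

end Cfsg.Agent.Helper9.LeechChar
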