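import Mathlib
import Cfsg.Agent.Helper9.LeechChar.Frame
import Cfsg.Agent.Helper9.LeechChar.Coord

/-!
The image of the lattice in the coordinates of a frame: an additive subgroup of `ℤ^24` with the
properties listed in `Like`.
-/

set_option autoImplicit false

namespace Cfsg.Agent.Helper9.LeechChar

open Cfsg.Agent.Helper9.ShortVec

/-- the properties of the image of the lattice in the coordinates of a frame. -/
structure Like (Λ : AddSubgroup (Fin 24 → ℤ)) : Prop where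
  single8 : ∀ i : Fin 24, (Pi.single i (8 : ℤ) : Fin 24 → ℤ) ∈ Λ
  diff4 : ∀ i j : Fin 24, (Pi.single i (4 : ℤ) - Pi.single j (4 : ℤ) : Fin 24 → ℤ) ∈ Λ
  parity : ∀ y ∈ Λ, ∀ i j : Fin 24, (2 : ℤ) ∣ y i - y j
  dot8 : ∀ y ∈ Λ, ∀ y' ∈ Λ, (8 : ℤ) ∣ ∑ i, y i * y' i
  norm16 : ∀ y ∈ Λ, (16 : ℤ) ∣ ∑ i, y i * y i
  no16 : ∀ y ∈ Λ, ∑ i, y i * y i ≠ 16
  count : {y : Fin 24 → ℤ | y ∈ Λ ∧ ∑ i, y i * y i = 32}.ncard = 196560

section

variable (b : (Fin 24 → ℤ) →ₗ[ℤ] (Fin 24 → ℤ) →ₗ[ℤ] ℤ)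

variable (hsymm : ∀ x y, b x y = b y x) (hpos : ∀ x, x ≠ 0 → 0 < b x x)
  (heven : ∀ x, (2 : ℤ) ∣ b x x) (h2 : ∀ x, b x x ≠ 2)

include hsymm hpos heven h2 in
theorem exists_like (h4 : {x : Fin 24 → ℤ | b x x = 4}.ncard = 196560)
    (h6 : {x : Fin 24 → ℤ | b x x = 6}.ncard = 16773120)
    (h8 : {x : Fin 24 → ℤ | b x x = 8}.ncard = 398034000) :
    ∃ c : (Fin 24 → ℤ) →ₗ[ℤ] (Fin 24 → ℤ), Function.Injective c ∧
      (∀ x, ∑ i, c x i * c x i = 8 * b x x) ∧ Like (LinearMap.range c).toAddSubgroup := by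
  obtain ⟨v, hv8, hvo, hvc⟩ := exists_frame b hsymm hpos heven h2 h4 h6 h8
  have hz : ∀ i j, ∃ z : Fin 24 → ℤ, v i - v j = (2 : ℤ) • z := by
    intro i j
    have h1 := (red_eq_iff (v i) (v j)).mp (hvc i j)
    choose z hz using h1
    refine ⟨z, ?_⟩
    funext k
    rw [hz k, Pi.smul_apply, smul_eq_mul]
  have hdot := dot_coord b v hsymm hpos hv8 hvo
  have hmem : ∀ y, y ∈ (LinearMap.range (coord b v)).toAddSubgroup ↔ ∃ x, coord b v x = y := by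
    intro y
    rw [Submodule.mem_toAddSubgroup, LinearMap.mem_range]
  refine ⟨coord b v, coord_injective b v hsymm hpos hv8 hvo, fun x => hdot x x, ?_⟩
  refine ⟨?_, ?_, ?_, ?_, ?_, ?_, ?_⟩
  · intro i
    rw [hmem]
    exact ⟨v i, coord_frame b v hv8 hvo i⟩
  · intro i j
    rw [hmem]
    obtain ⟨z, hz⟩ := hz i j
    exact ⟨z, coord_half b v hv8 hvo hz⟩
  · intro y hy i j
    rw [hmem] at hy
    obtain ⟨x, rfl⟩ := hy
    obtain ⟨z, hz⟩ := hz i j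
    exact coord_parity b v hz x
  · intro y hy y' hy'
    rw [hmem] at hy hy'
    obtain ⟨x, rfl⟩ := hy
    obtain ⟨x', rfl⟩ := hy'
    rw [hdot]
    exact Dvd.intro _ rfl
  · intro y hy
    rw [hmem] at hy
    obtain ⟨x, rfl⟩ := hy
    rw [hdot]
    obtain ⟨k, hk⟩ := heven x
    exact ⟨k, by rw [hk]; ring⟩
  · intro y hy
    rw [hmem] at hy
    obtain ⟨x, rfl⟩ := hy
    rw [hdot]
    have := h2 x
    omega
  · rw [← h4, ← Set.ncard_image_of_injective {x : Fin 24 → ℤ | b x x = 4}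
      (coord_injective b v hsymm hpos hv8 hvo)]
    congr 1
    ext y
    simp only [Set.mem_ofPred_eq, Set.mem_image]
    constructor
    · rintro ⟨hy, hy32⟩
      rw [hmem] at hy
      obtain ⟨x, rfl⟩ := hy
      rw [hdot] at hy32
      exact ⟨x, by omega, rfl⟩
    · rintro ⟨x, hx, rfl⟩
      refine ⟨(hmem _).mpr ⟨x, rfl⟩, ?_⟩
      rw [hdot, hx]
      norm_num

end

end Cfsg.Agent.Helper9.LeechChar
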