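import Mathlib
import Cfsg.Agent.Helper9.LeechChar.Like

/-!
The binary code of an additive subgroup of `ℤ^24` with the properties `Like`: the reductions
modulo 2 of the halves of its vectors with even coordinates.
-/

set_option autoImplicit false

namespace Cfsg.Agent.Helper9.LeechChar

open Cfsg.Agent.Helper9.ShortVec

theorem red_add (a a' : Fin 24 → ℤ) : red (a + a') = red a + red a' := by
  funext i
  simp only [red_apply, Pi.add_apply, Int.cast_add]

theorem red_zero : red 0 = 0 := by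
  funext i
  simp only [red_apply, Pi.zero_apply, Int.cast_zero]

theorem red_eq_zero_iff (a : Fin 24 → ℤ) (i : Fin 24) : red a i = 0 ↔ a i % 2 = 0 := by
  rw [red_apply, ZMod.intCast_zmod_eq_zero_iff_dvd]
  push_cast
  omega

theorem red_ne_zero_iff (a : Fin 24 → ℤ) (i : Fin 24) : red a i ≠ 0 ↔ a i % 2 = 1 := by
  rw [Ne, red_eq_zero_iff]
  omega

theorem red_eq_one_iff (a : Fin 24 → ℤ) (i : Fin 24) : red a i = 1 ↔ a i % 2 = 1 := by
  rw [← red_ne_zero_iff]
  constructor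
  · intro h
    rw [h]
    decide
  · intro h
    generalize red a i = c at h
    revert c
    decide

section

variable {Λ : AddSubgroup (Fin 24 → ℤ)} (hΛ : Like Λ)

include hΛ in
theorem Like.four_smul_mem (t : Fin 24 → ℤ) (ht : (2 : ℤ) ∣ ∑ i, t i) : (4 : ℤ) • t ∈ Λ := by
  obtain ⟨k, hk⟩ := ht
  have h : (4 : ℤ) • t = (∑ i, t i • (Pi.single i (4 : ℤ) - Pi.single 0 (4 : ℤ) : Fin 24 → ℤ)) +
      k • (Pi.single 0 (8 : ℤ) : Fin 24 → ℤ) := by
    funext j
    simp only [Pi.add_apply, Finset.sum_apply, Pi.smul_apply, Pi.sub_apply, Pi.single_apply,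
      smul_eq_mul, mul_sub, Finset.sum_sub_distrib, mul_ite, mul_zero, Finset.sum_ite_eq,
      Finset.mem_univ, if_true]
    by_cases hj : j = 0
    · simp only [hj, if_true, ← Finset.sum_mul, hk]
      ring
    · simp only [hj, if_false, Finset.sum_const_zero]
      ring
  rw [h]
  exact Λ.add_mem (Λ.sum_mem (fun i _ => Λ.zsmul_mem (hΛ.diff4 i 0) _))
    (Λ.zsmul_mem (hΛ.single8 0) _)

end

/-- the halves of the vectors with even coordinates, reduced modulo 2, as an additive subgroup. -/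
def halfGrp (Λ : AddSubgroup (Fin 24 → ℤ)) : AddSubgroup (Fin 24 → ZMod 2) where
  carrier := {w | ∃ a : Fin 24 → ℤ, (2 : ℤ) • a ∈ Λ ∧ red a = w}
  add_mem' := by
    rintro _ _ ⟨a, ha, rfl⟩ ⟨a', ha', rfl⟩
    refine ⟨a + a', ?_, red_add a a'⟩
    rw [smul_add]
    exact Λ.add_mem ha ha'
  zero_mem' := ⟨0, by rw [smul_zero]; exact Λ.zero_mem, red_zero⟩
  neg_mem' := by
    rintro _ ⟨a, ha, rfl⟩
    refine ⟨a, ha, ?_⟩
    funext i
    rw [Pi.neg_apply, ZMod.neg_eq_self_mod_two]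

/-- the code of `Λ`. -/
def halfCode (Λ : AddSubgroup (Fin 24 → ℤ)) : Submodule (ZMod 2) (Fin 24 → ZMod 2) :=
  AddSubgroup.toZModSubmodule 2 (halfGrp Λ)

theorem mem_halfCode (Λ : AddSubgroup (Fin 24 → ℤ)) (w : Fin 24 → ZMod 2) :
    w ∈ halfCode Λ ↔ ∃ a : Fin 24 → ℤ, (2 : ℤ) • a ∈ Λ ∧ red a = w := Iff.rfl

section

variable {Λ : AddSubgroup (Fin 24 → ℤ)} (hΛ : Like Λ)

include hΛ in
theorem halfCode_orth : ∀ v ∈ halfCode Λ, ∀ w ∈ halfCode Λ, ∑ i, v i * w i = 0 := by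
  rintro _ ⟨a, ha, rfl⟩ _ ⟨a', ha', rfl⟩
  have h1 := hΛ.dot8 _ ha _ ha'
  have h3 : ∑ i, ((2 : ℤ) • a) i * ((2 : ℤ) • a') i = 4 * ∑ i, a i * a' i := by
    rw [Finset.mul_sum]
    apply Finset.sum_congr rfl
    intro i _
    simp only [Pi.smul_apply, smul_eq_mul]
    ring
  rw [h3] at h1
  have h4 : (2 : ℤ) ∣ ∑ i, a i * a' i := by omega
  have h5 : ∑ i, red a i * red a' i = ((∑ i, a i * a' i : ℤ) : ZMod 2) := by
    simp only [red_apply]
    push_cast
    rfl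
  rw [h5, ZMod.intCast_zmod_eq_zero_iff_dvd]
  exact_mod_cast h4

theorem sum_sq_mod_four (a : Fin 24 → ℤ) :
    (4 : ℤ) ∣ (∑ i, a i * a i) - ((hammingNorm (red a) : ℕ) : ℤ) := by
  classical
  have h1 : ((hammingNorm (red a) : ℕ) : ℤ) = ∑ i, (if a i % 2 = 1 then (1 : ℤ) else 0) := by
    rw [Finset.sum_boole]
    congr 2
    unfold hammingNorm
    congr 1
    ext i
    simp only [Finset.mem_filter, Finset.mem_univ, true_and]
    exact red_ne_zero_iff a i
  rw [h1, ← Finset.sum_sub_distrib]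
  apply Finset.dvd_sum
  intro i _
  rcases Int.emod_two_eq_zero_or_one (a i) with h | h
  · rw [if_neg (by omega)]
    obtain ⟨k, hk⟩ : (2 : ℤ) ∣ a i := Int.dvd_of_emod_eq_zero h
    exact ⟨k * k, by rw [hk]; ring⟩
  · rw [if_pos h]
    obtain ⟨k, hk⟩ : ∃ k, a i = 2 * k + 1 := ⟨a i / 2, by omega⟩
    exact ⟨k * k + k, by rw [hk]; ring⟩

include hΛ in
theorem halfCode_four_dvd : ∀ w ∈ halfCode Λ, 4 ∣ hammingNorm w := by
  rintro _ ⟨a, ha, rfl⟩
  have h1 := hΛ.norm16 _ ha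
  have h3 : ∑ i, ((2 : ℤ) • a) i * ((2 : ℤ) • a) i = 4 * ∑ i, a i * a i := by
    rw [Finset.mul_sum]
    apply Finset.sum_congr rfl
    intro i _
    simp only [Pi.smul_apply, smul_eq_mul]
    ring
  rw [h3] at h1
  have h4 := sum_sq_mod_four a
  have h5 : (4 : ℤ) ∣ ((hammingNorm (red a) : ℕ) : ℤ) := by omega
  exact_mod_cast h5

end

end Cfsg.Agent.Helper9.LeechChar
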