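import Mathlib
import Cfsg.Agent.Helper9.LeechChar.Code

/-!
The code of `Λ` has no words of weight 4 and dimension at most 12.
-/

set_option autoImplicit false

namespace Cfsg.Agent.Helper9.LeechChar

open Cfsg.Agent.Helper9.ShortVec

theorem hammingNorm_red (a : Fin 24 → ℤ) :
    ((hammingNorm (red a) : ℕ) : ℤ) = ∑ i, (if a i % 2 = 1 then (1 : ℤ) else 0) := by
  classical
  rw [Finset.sum_boole]
  congr 2
  unfold hammingNorm
  congr 1
  ext i
  simp only [Finset.mem_filter, Finset.mem_univ, true_and]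
  exact red_ne_zero_iff a i

section

variable {Λ : AddSubgroup (Fin 24 → ℤ)} (hΛ : Like Λ)

include hΛ in
theorem halfCode_ne_four : ∀ w ∈ halfCode Λ, hammingNorm w ≠ 4 := by
  classical
  rintro _ ⟨a, ha, rfl⟩ h4
  have hex : ∃ i0, a i0 % 2 = 1 := by
    by_contra hno
    push Not at hno
    have h0 : hammingNorm (red a) = 0 := by
      rw [hammingNorm_eq_zero]
      funext i
      rw [Pi.zero_apply, red_eq_zero_iff]
      have := hno i
      omega
    omega
  obtain ⟨i0, hi0⟩ := hex
  set t : Fin 24 → ℤ := fun i => a i / 2 with ht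
  set r : ℤ → (Fin 24 → ℤ) :=
    fun u => (2 : ℤ) • a - (4 : ℤ) • (t + (Pi.single i0 u : Fin 24 → ℤ)) with hr
  have hnorm : ∀ u : ℤ, (u = 0 ∨ u = 1) → ∑ i, r u i * r u i = 16 := by
    intro u hu
    have h1 : ∀ i, r u i * r u i = 4 * (if a i % 2 = 1 then (1 : ℤ) else 0) := by
      intro i
      simp only [hr, Pi.sub_apply, Pi.smul_apply, Pi.add_apply, smul_eq_mul, ht, Pi.single_apply]
      by_cases hi : i = i0
      · subst hi
        rw [if_pos rfl, if_pos hi0]
        have h3 : 2 * a i - 4 * (a i / 2 + u) = 2 - 4 * u := by omega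
        rw [h3]
        rcases hu with rfl | rfl <;> norm_num
      · rw [if_neg hi]
        rcases Int.emod_two_eq_zero_or_one (a i) with h | h
        · rw [if_neg (by omega)]
          have h3 : 2 * a i - 4 * (a i / 2 + 0) = 0 := by omega
          rw [h3]
          norm_num
        · rw [if_pos h]
          have h3 : 2 * a i - 4 * (a i / 2 + 0) = 2 := by omega
          rw [h3]
          norm_num
    rw [Finset.sum_congr rfl (fun i _ => h1 i), ← Finset.mul_sum, ← hammingNorm_red, h4]
    norm_num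
  set u : ℤ := (∑ i, t i) % 2 with hu
  have hu01 : u = 0 ∨ u = 1 := by omega
  have hsum : (2 : ℤ) ∣ ∑ i, (t + (Pi.single i0 u : Fin 24 → ℤ)) i := by
    simp only [Pi.add_apply, Finset.sum_add_distrib, Finset.sum_pi_single', Finset.mem_univ,
      if_true]
    omega
  have hmem : r u ∈ Λ :=
    Λ.sub_mem ha (hΛ.four_smul_mem _ hsum)
  exact hΛ.no16 _ hmem (hnorm u hu01)

end

open Module in
theorem selfOrth_finrank_le {n : ℕ} (C : Submodule (ZMod 2) (Fin n → ZMod 2))
    (horth : ∀ v ∈ C, ∀ w ∈ C, ∑ i, v i * w i = 0) : 2 * finrank (ZMod 2) C ≤ n := by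
  classical
  set B : LinearMap.BilinForm (ZMod 2) (Fin n → ZMod 2) :=
    Matrix.toBilin' (1 : Matrix (Fin n) (Fin n) (ZMod 2)) with hB
  have hBa : ∀ v w : Fin n → ZMod 2, B v w = ∑ i, v i * w i := by
    intro v w
    rw [hB, Matrix.toBilin'_apply']
    simp [dotProduct]
  have hnd : B.Nondegenerate := by
    rw [hB, Matrix.nondegenerate_toBilin'_iff]
    exact Matrix.nondegenerate_of_det_ne_zero (by simp)
  have h1 := LinearMap.BilinForm.finrank_orthogonal hnd C
  have h2 : C ≤ B.orthogonal C := by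
    intro w hw v hv
    show B v w = 0
    rw [hBa]
    exact horth v hv w hw
  have h3 := Submodule.finrank_mono h2
  have h4 : finrank (ZMod 2) (Fin n → ZMod 2) = n := by simp
  have h5 := Submodule.finrank_le C
  omega

end Cfsg.Agent.Helper9.LeechChar
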