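import Mathlib
import Cfsg.Agent.Helper9.LeechChar.Code2

/-!
The shapes of the integer vectors of norm 32 (in coordinates) of the three kinds.
-/

set_option autoImplicit false

namespace Cfsg.Agent.Helper9.LeechChar

open Cfsg.Agent.Helper9.ShortVec

theorem coord_sq_le {y : Fin 24 → ℤ} {S : ℤ} (h : ∑ i, y i * y i = S) (j : Fin 24) :
    y j * y j ≤ S := by
  rw [← h]
  exact Finset.single_le_sum (f := fun i => y i * y i) (fun i _ => mul_self_nonneg (y i))
    (Finset.mem_univ j)

theorem shapeA {y : Fin 24 → ℤ} (h4 : ∀ i, y i % 4 = 0) (h : ∑ i, y i * y i = 32) :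
    (∀ i, y i = 0 ∨ y i = 4 ∨ y i = -4) ∧
      (Finset.univ.filter (fun i => y i ≠ 0)).card = 2 := by
  have h1 : ∀ i, y i = 0 ∨ y i = 4 ∨ y i = -4 := by
    intro i
    have h2 := coord_sq_le h i
    have h3 : -6 < y i := by nlinarith
    have h5 : y i < 6 := by nlinarith
    have := h4 i
    omega
  refine ⟨h1, ?_⟩
  have h2 : ∀ i, y i * y i = if y i ≠ 0 then 16 else 0 := by
    intro i
    rcases h1 i with h | h | h <;> rw [h] <;> norm_num
  rw [Finset.sum_congr rfl (fun i _ => h2 i), Finset.sum_ite, Finset.sum_const_zero, add_zero,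
    Finset.sum_const, nsmul_eq_mul] at h
  omega

theorem shapeB {a : Fin 24 → ℤ} (h : ∑ i, a i * a i = 8) (h8 : 8 ≤ hammingNorm (red a)) :
    (∀ i, a i = 0 ∨ a i = 1 ∨ a i = -1) ∧ hammingNorm (red a) = 8 := by
  have hw := hammingNorm_red a
  have hnn : ∀ i ∈ Finset.univ, 0 ≤ a i * a i - (if a i % 2 = 1 then (1 : ℤ) else 0) := by
    intro i _
    split_ifs with hi
    · have h0 : a i ≠ 0 := by
        intro h0
        rw [h0] at hi
        norm_num at hi
      have h1 : 1 ≤ a i * a i := by
        rcases lt_or_gt_of_ne h0 with h | h <;> nlinarith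
      omega
    · have := mul_self_nonneg (a i)
      omega
  have hsum : ∑ i, (a i * a i - (if a i % 2 = 1 then (1 : ℤ) else 0)) =
      8 - (hammingNorm (red a) : ℤ) := by
    rw [Finset.sum_sub_distrib, h, ← hw]
  have hle : ∑ i, (a i * a i - (if a i % 2 = 1 then (1 : ℤ) else 0)) ≤ 0 := by
    rw [hsum]
    omega
  have hz := le_antisymm hle (Finset.sum_nonneg hnn)
  have hzero := (Finset.sum_eq_zero_iff_of_nonneg hnn).mp hz
  constructor
  · intro i
    have h1 := hzero i (Finset.mem_univ i)
    split_ifs at h1 with hi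
    · have h3 : -2 < a i := by nlinarith
      have h5 : a i < 2 := by nlinarith
      omega
    · left
      have h3 : a i * a i = 0 := by omega
      exact mul_self_eq_zero.mp h3
  · rw [hz] at hsum
    omega

theorem shapeC {y : Fin 24 → ℤ} (hodd : ∀ i, y i % 2 = 1) (h : ∑ i, y i * y i = 32) :
    ∃ j, (y j = 3 ∨ y j = -3) ∧ ∀ i, i ≠ j → (y i = 1 ∨ y i = -1) := by
  classical
  have hf : ∀ i, y i * y i = 1 ∨ 9 ≤ y i * y i := by
    intro i
    have := hodd i
    by_cases h1 : y i = 1 ∨ y i = -1
    · left
      rcases h1 with h1 | h1 <;> rw [h1] <;> norm_num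
    · right
      have h3 : y i ≤ -3 ∨ 3 ≤ y i := by omega
      rcases h3 with h3 | h3 <;> nlinarith
  have hone : ∀ i, y i * y i = 1 → (y i = 1 ∨ y i = -1) := by
    intro i hi
    have h3 : -2 < y i := by nlinarith
    have h5 : y i < 2 := by nlinarith
    have := hodd i
    omega
  have hex : ∃ j, y j * y j ≠ 1 := by
    by_contra hno
    push Not at hno
    rw [Finset.sum_congr rfl (fun i _ => hno i)] at h
    simp at h
  obtain ⟨j, hj⟩ := hex
  have hj9 : 9 ≤ y j * y j := by
    rcases hf j with h1 | h1
    · exact absurd h1 hj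
    · exact h1
  have hsplit := Finset.add_sum_erase Finset.univ (fun i => y i * y i) (Finset.mem_univ j)
  have hrest : ∀ i ∈ Finset.univ.erase j, y i * y i = 1 := by
    by_contra hno
    push Not at hno
    obtain ⟨k, hk, hk1⟩ := hno
    have hk9 : 9 ≤ y k * y k := by
      rcases hf k with h1 | h1
      · exact absurd h1 hk1
      · exact h1
    have hsplit2 := Finset.add_sum_erase (Finset.univ.erase j) (fun i => y i * y i) hk
    have hge : (22 : ℤ) ≤ ∑ i ∈ (Finset.univ.erase j).erase k, y i * y i := by
      have h1 : ∀ i ∈ (Finset.univ.erase j).erase k, (1 : ℤ) ≤ y i * y i := by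
        intro i _
        rcases hf i with h | h <;> omega
      have h3 := Finset.sum_le_sum h1
      rw [Finset.sum_const, nsmul_eq_mul, Finset.card_erase_of_mem hk,
        Finset.card_erase_of_mem (Finset.mem_univ j), Finset.card_univ, Fintype.card_fin] at h3
      norm_num at h3
      exact h3
    omega
  rw [Finset.sum_congr rfl hrest, Finset.sum_const, nsmul_eq_mul,
    Finset.card_erase_of_mem (Finset.mem_univ j), Finset.card_univ, Fintype.card_fin] at hsplit
  norm_num at hsplit
  refine ⟨j, ?_, ?_⟩
  · have h9 : y j * y j = 9 := by omega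
    have h3 : -4 < y j := by nlinarith
    have h5 : y j < 4 := by nlinarith
    have := hodd j
    have h6 : y j ≠ 1 := by
      intro h6
      rw [h6] at h9
      norm_num at h9
    have h7 : y j ≠ -1 := by
      intro h7
      rw [h7] at h9
      norm_num at h9
    omega
  · intro i hi
    exact hone i (hrest i (Finset.mem_erase.mpr ⟨hi, Finset.mem_univ i⟩))

end Cfsg.Agent.Helper9.LeechChar
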