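import Mathlib
import Cfsg.Agent.Helper9.LeechChar.Shape
import Cfsg.Agent.Helper9.CosetLeader2

/-!
Counting: vectors of shape `(±4, ±4, 0^22)`, and the words of weight 8 of a code of minimum
weight 8.
-/

set_option autoImplicit false

namespace Cfsg.Agent.Helper9.LeechChar

open Cfsg.Agent.Helper9.ShortVec

/-- the support of an integer vector. -/
def suppZ (y : Fin 24 → ℤ) : Finset (Fin 24) := Finset.univ.filter (fun i => y i ≠ 0)

/-- the positions of the negative coordinates. -/
def negZ (y : Fin 24 → ℤ) : Finset (Fin 24) := Finset.univ.filter (fun i => y i < 0)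

theorem mem_suppZ (y : Fin 24 → ℤ) (i : Fin 24) : i ∈ suppZ y ↔ y i ≠ 0 := by
  unfold suppZ
  simp

theorem mem_negZ (y : Fin 24 → ℤ) (i : Fin 24) : i ∈ negZ y ↔ y i < 0 := by
  unfold negZ
  simp

theorem eq_of_supp_neg {y y' : Fin 24 → ℤ} {m : ℤ} (hm : 0 < m)
    (hy : ∀ i, y i = 0 ∨ y i = m ∨ y i = -m) (hy' : ∀ i, y' i = 0 ∨ y' i = m ∨ y' i = -m)
    (i : Fin 24) (hs : i ∈ suppZ y ↔ i ∈ suppZ y') (hn : i ∈ negZ y ↔ i ∈ negZ y') :
    y i = y' i := by
  rw [mem_suppZ, mem_suppZ] at hs
  rw [mem_negZ, mem_negZ] at hn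
  rcases hy i with h | h | h <;> rcases hy' i with h' | h' | h' <;> omega

theorem countA (T : Finset (Fin 24 → ℤ))
    (hT : ∀ y ∈ T, (∀ i, y i % 4 = 0) ∧ ∑ i, y i * y i = 32) : T.card ≤ 1104 := by
  classical
  have h1 : T.card ≤ (Finset.sigma (α := fun _ => Finset (Fin 24))
      (Finset.powersetCard 2 (Finset.univ : Finset (Fin 24))) (fun p => p.powerset)).card := by
    apply Finset.card_le_card_of_injOn
      (fun y => (⟨suppZ y, negZ y⟩ : Σ _ : Finset (Fin 24), Finset (Fin 24)))
    · intro y hy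
      rw [Finset.mem_coe] at hy
      have hc := (shapeA (hT y hy).1 (hT y hy).2).2
      rw [Finset.mem_coe, Finset.mem_sigma]
      refine ⟨Finset.mem_powersetCard.mpr ⟨Finset.subset_univ _, hc⟩,
        Finset.mem_powerset.mpr ?_⟩
      intro i hi
      rw [mem_negZ] at hi
      rw [mem_suppZ]
      omega
    · intro y hy y' hy' heq
      rw [Finset.mem_coe] at hy hy'
      simp only [Sigma.mk.injEq, heq_eq_eq] at heq
      obtain ⟨hs, hn⟩ := heq
      funext i
      apply eq_of_supp_neg (m := 4) (by norm_num) (shapeA (hT y hy).1 (hT y hy).2).1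
        (shapeA (hT y' hy').1 (hT y' hy').2).1 i
      · rw [hs]
      · rw [hn]
  rw [Finset.card_sigma, Finset.sum_congr rfl (fun p hp => by
    rw [Finset.card_powerset, (Finset.mem_powersetCard.mp hp).2]), Finset.sum_const,
    Finset.card_powersetCard, Finset.card_univ, Fintype.card_fin] at h1
  have h3 : Nat.choose 24 2 = 276 := by decide
  rw [h3] at h1
  simpa using h1

theorem card_octads_le (C : Submodule (ZMod 2) (Fin 24 → ZMod 2))
    (hmin : ∀ w ∈ C, w ≠ 0 → 8 ≤ hammingNorm w) (O : Finset (Fin 24 → ZMod 2))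
    (hO : ∀ w ∈ O, w ∈ C ∧ hammingNorm w = 8) : O.card ≤ 759 := by
  classical
  have h1 : (O.sigma (fun w => Finset.powersetCard 5 (supp2 w))).card ≤
      (Finset.powersetCard 5 (Finset.univ : Finset (Fin 24))).card := by
    apply Finset.card_le_card_of_injOn (fun p => p.2)
    · rintro ⟨w, s⟩ hp
      rw [Finset.mem_coe, Finset.mem_sigma] at hp
      rw [Finset.mem_coe, Finset.mem_powersetCard]
      exact ⟨Finset.subset_univ _, (Finset.mem_powersetCard.mp hp.2).2⟩
    · rintro ⟨w, s⟩ hp ⟨w', s'⟩ hp' heq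
      rw [Finset.mem_coe, Finset.mem_sigma] at hp hp'
      simp only at heq
      subst heq
      obtain ⟨hw, hs⟩ := hp
      obtain ⟨hw', hs'⟩ := hp'
      simp only at hw hs hw' hs'
      rw [Finset.mem_powersetCard] at hs hs'
      have h3 : w = w' := octad_unique' C hmin (hO w hw).1 (hO w' hw').1 (hO w hw).2
        (hO w' hw').2 s hs.2 hs.1 hs'.1
      subst h3
      rfl
  rw [Finset.card_sigma, Finset.sum_congr rfl (fun w hw => by
    rw [Finset.card_powersetCard, ← hammingNorm_eq_card_supp2, (hO w hw).2]), Finset.sum_const,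
    Finset.card_powersetCard, Finset.card_univ, Fintype.card_fin] at h1
  have h3 : Nat.choose 24 5 = 42504 := by decide
  have h5 : Nat.choose 8 5 = 56 := by decide
  rw [h3, h5, smul_eq_mul] at h1
  omega

end Cfsg.Agent.Helper9.LeechChar
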