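import Mathlib
import Cfsg.Agent.Helper9.LeechChar.CountA

/-!
Counting: vectors of shape `(±2^8, 0^16)`.
-/

set_option autoImplicit false

namespace Cfsg.Agent.Helper9.LeechChar

open Cfsg.Agent.Helper9.ShortVec

/-- the halves of the coordinates. -/
def half (y : Fin 24 → ℤ) : Fin 24 → ℤ := fun i => y i / 2

theorem two_smul_half {y : Fin 24 → ℤ} (h : ∀ i, y i % 2 = 0) : (2 : ℤ) • half y = y := by
  funext i
  have := h i
  simp only [half, Pi.smul_apply, smul_eq_mul]
  omega

/-- an element of a non-empty set of positions. -/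
def pick (s : Finset (Fin 24)) : Fin 24 := if h : s.Nonempty then s.min' h else 0

theorem pick_mem {s : Finset (Fin 24)} (h : s.Nonempty) : pick s ∈ s := by
  unfold pick
  rw [dif_pos h]
  exact Finset.min'_mem s h

section

variable {Λ : AddSubgroup (Fin 24 → ℤ)} (hΛ : Like Λ)

include hΛ in
theorem halfCode_min : ∀ w ∈ halfCode Λ, w ≠ 0 → 8 ≤ hammingNorm w := by
  intro w hw hne
  obtain ⟨k, hk⟩ := halfCode_four_dvd hΛ w hw
  have h1 := halfCode_ne_four hΛ w hw
  have hpos : 0 < hammingNorm w := hammingNorm_pos_iff.2 hne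
  omega

include hΛ in
/-- the shape of the even vectors of norm 32 which are not divisible by 4. -/
theorem evenShape {y : Fin 24 → ℤ} (hy : y ∈ Λ) (h2 : ∀ i, y i % 2 = 0)
    (h4 : ¬ ∀ i, y i % 4 = 0) (h32 : ∑ i, y i * y i = 32) :
    red (half y) ∈ halfCode Λ ∧ hammingNorm (red (half y)) = 8 ∧
      (∀ i, y i = 0 ∨ y i = 2 ∨ y i = -2) ∧ suppZ y = supp2 (red (half y)) := by
  have hy2 := two_smul_half h2
  have hmem : red (half y) ∈ halfCode Λ := ⟨half y, by rw [hy2]; exact hy, rfl⟩
  have hne : red (half y) ≠ 0 := by
    intro h0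
    apply h4
    intro i
    have h1 := congrFun h0 i
    rw [Pi.zero_apply, red_eq_zero_iff] at h1
    have := h2 i
    simp only [half] at h1
    omega
  have h8 := halfCode_min hΛ _ hmem hne
  have hsum : ∑ i, half y i * half y i = 8 := by
    have h1 : ∑ i, y i * y i = 4 * ∑ i, half y i * half y i := by
      rw [Finset.mul_sum]
      apply Finset.sum_congr rfl
      intro i _
      have := h2 i
      have h3 : y i = 2 * half y i := by
        simp only [half]
        omega
      rw [h3]
      ring
    omega
  obtain ⟨hs, hw⟩ := shapeB hsum h8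
  have hyi : ∀ i, y i = 2 * half y i := by
    intro i
    have := h2 i
    simp only [half]
    omega
  refine ⟨hmem, hw, ?_, ?_⟩
  · intro i
    have := hs i
    have := hyi i
    omega
  · ext i
    rw [mem_suppZ, mem_supp2, red_ne_zero_iff]
    have := hs i
    have := hyi i
    omega

include hΛ in
theorem countB (T : Finset (Fin 24 → ℤ))
    (hT : ∀ y ∈ T, y ∈ Λ ∧ (∀ i, y i % 2 = 0) ∧ (¬ ∀ i, y i % 4 = 0) ∧ ∑ i, y i * y i = 32) :
    T.card ≤ 97152 := by
  classical
  set O : Finset (Fin 24 → ZMod 2) :=
    Finset.univ.filter (fun w => w ∈ halfCode Λ ∧ hammingNorm w = 8) with hO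
  have hOm : ∀ w, w ∈ O ↔ (w ∈ halfCode Λ ∧ hammingNorm w = 8) := by
    intro w
    rw [hO, Finset.mem_filter]
    simp
  have hO759 : O.card ≤ 759 :=
    card_octads_le (halfCode Λ) (halfCode_min hΛ) O (fun w hw => (hOm w).mp hw)
  have hsh : ∀ y ∈ T, red (half y) ∈ halfCode Λ ∧ hammingNorm (red (half y)) = 8 ∧
      (∀ i, y i = 0 ∨ y i = 2 ∨ y i = -2) ∧ suppZ y = supp2 (red (half y)) := by
    intro y hy
    have h := hT y hy
    exact evenShape hΛ h.1 h.2.1 h.2.2.1 h.2.2.2
  have h1 : T.card ≤ (Finset.sigma (α := fun _ => Finset (Fin 24)) O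
      (fun w => ((supp2 w).erase (pick (supp2 w))).powerset)).card := by
    apply Finset.card_le_card_of_injOn
      (fun y => (⟨red (half y), (negZ y).erase (pick (suppZ y))⟩ :
        Σ _ : Fin 24 → ZMod 2, Finset (Fin 24)))
    · intro y hy
      rw [Finset.mem_coe] at hy
      have h := hsh y hy
      rw [Finset.mem_coe, Finset.mem_sigma]
      refine ⟨(hOm _).mpr ⟨h.1, h.2.1⟩, Finset.mem_powerset.mpr ?_⟩
      show (negZ y).erase (pick (suppZ y)) ⊆ _
      rw [h.2.2.2]
      apply Finset.erase_subset_erase
      rw [← h.2.2.2]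
      intro i hi
      rw [mem_negZ] at hi
      rw [mem_suppZ]
      omega
    · intro y hy y' hy' heq
      rw [Finset.mem_coe] at hy hy'
      have h := hsh y hy
      have h' := hsh y' hy'
      simp only [Sigma.mk.injEq, heq_eq_eq] at heq
      obtain ⟨hw, hn⟩ := heq
      have hss : suppZ y = suppZ y' := by rw [h.2.2.2, h'.2.2.2, hw]
      rw [← hss] at hn
      set m := pick (suppZ y) with hm
      have hoff : ∀ i, i ≠ m → y i = y' i := by
        intro i hi
        apply eq_of_supp_neg (m := 2) (by norm_num) h.2.2.1 h'.2.2.1 i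
        · rw [hss]
        · have h3 := Finset.ext_iff.mp hn i
          rw [Finset.mem_erase, Finset.mem_erase] at h3
          constructor
          · intro h5
            exact (h3.mp ⟨hi, h5⟩).2
          · intro h5
            exact (h3.mpr ⟨hi, h5⟩).2
      by_contra hne
      have hmne : y m ≠ y' m := by
        intro hmm
        apply hne
        funext i
        by_cases hi : i = m
        · rw [hi]
          exact hmm
        · exact hoff i hi
      have hnorm : ∑ i, (y - y') i * (y - y') i = 16 := by
        rw [Finset.sum_eq_single m]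
        · have h3 := h.2.2.1 m
          have h5 := h'.2.2.1 m
          have hne8 : supp2 (red (half y)) ≠ ∅ := by
            intro h0
            have h9 := h.2.1
            rw [hammingNorm_eq_card_supp2, h0] at h9
            simp at h9
          have hmem : m ∈ suppZ y := by
            rw [hm]
            apply pick_mem
            rw [h.2.2.2]
            exact Finset.nonempty_iff_ne_empty.mpr hne8
          have hmem' : m ∈ suppZ y' := by rw [← hss]; exact hmem
          rw [mem_suppZ] at hmem hmem'
          rw [Pi.sub_apply]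
          have hd : y m - y' m = 4 ∨ y m - y' m = -4 := by omega
          rcases hd with hd | hd <;> rw [hd] <;> norm_num
        · intro i _ hi
          rw [Pi.sub_apply, hoff i hi, sub_self, mul_zero]
        · intro h0
          exact absurd (Finset.mem_univ m) h0
      exact hΛ.no16 _ (Λ.sub_mem (hT y hy).1 (hT y' hy').1) hnorm
  rw [Finset.card_sigma, Finset.sum_congr rfl (fun w hw => by
    rw [Finset.card_powerset, Finset.card_erase_of_mem (pick_mem (by
      rw [Finset.nonempty_iff_ne_empty]
      intro h0
      have h9 := ((hOm w).mp hw).2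
      rw [hammingNorm_eq_card_supp2, h0] at h9
      simp at h9)), ← hammingNorm_eq_card_supp2, ((hOm w).mp hw).2]),
    Finset.sum_const, smul_eq_mul] at h1
  norm_num at h1
  omega

end

end Cfsg.Agent.Helper9.LeechChar
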