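import Mathlib
import Cfsg.Agent.Helper9.LeechChar.CountB

/-!
Counting: vectors of shape `(∓3, ±1^23)`.
-/

set_option autoImplicit false

namespace Cfsg.Agent.Helper9.LeechChar

open Cfsg.Agent.Helper9.ShortVec

theorem pick_singleton (j : Fin 24) : pick {j} = j := by
  unfold pick
  rw [dif_pos (Finset.singleton_nonempty j), Finset.min'_singleton]

/-- the position of the coordinate `±3`. -/
noncomputable def bigPos (y : Fin 24 → ℤ) : Fin 24 :=
  pick (Finset.univ.filter (fun i => y i * y i ≠ 1))

theorem oddShape {y : Fin 24 → ℤ} (hodd : ∀ i, y i % 2 = 1) (h : ∑ i, y i * y i = 32) :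
    (y (bigPos y) = 3 ∨ y (bigPos y) = -3) ∧ ∀ i, i ≠ bigPos y → (y i = 1 ∨ y i = -1) := by
  obtain ⟨j, hj, hrest⟩ := shapeC hodd h
  have h1 : Finset.univ.filter (fun i => y i * y i ≠ 1) = {j} := by
    ext i
    rw [Finset.mem_filter, Finset.mem_singleton]
    constructor
    · rintro ⟨-, hi⟩
      by_contra hne
      rcases hrest i hne with h3 | h3 <;> rw [h3] at hi <;> norm_num at hi
    · rintro rfl
      refine ⟨Finset.mem_univ _, ?_⟩
      rcases hj with h3 | h3 <;> rw [h3] <;> norm_num
  have h3 : bigPos y = j := by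
    unfold bigPos
    rw [h1, pick_singleton]
  rw [h3]
  exact ⟨hj, hrest⟩

section

variable {Λ : AddSubgroup (Fin 24 → ℤ)}

theorem card_halfCode (Λ : AddSubgroup (Fin 24 → ℤ))
    [DecidablePred fun w : Fin 24 → ZMod 2 => w ∈ halfCode Λ] :
    (Finset.univ.filter (fun w : Fin 24 → ZMod 2 => w ∈ halfCode Λ)).card =
      2 ^ Module.finrank (ZMod 2) (halfCode Λ) := by
  have h1 := Module.natCard_eq_pow_finrank (K := ZMod 2) (V := halfCode Λ)
  rw [Nat.card_zmod] at h1
  rw [← h1, Nat.card_eq_fintype_card, Fintype.card_subtype]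

theorem countC (T : Finset (Fin 24 → ℤ)) (x0 : Fin 24 → ℤ) (hx0 : x0 ∈ Λ)
    (hx0odd : ∀ i, x0 i % 2 = 1)
    (hT : ∀ y ∈ T, y ∈ Λ ∧ (∀ i, y i % 2 = 1) ∧ ∑ i, y i * y i = 32) :
    T.card ≤ 24 * 2 ^ Module.finrank (ZMod 2) (halfCode Λ) := by
  classical
  have h1 : T.card ≤ ((Finset.univ : Finset (Fin 24)) ×ˢ
      (Finset.univ.filter (fun w : Fin 24 → ZMod 2 => w ∈ halfCode Λ))).card := by
    apply Finset.card_le_card_of_injOn (fun y => (bigPos y, red (half (y - x0))))
    · intro y hy
      rw [Finset.mem_coe] at hy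
      have h := hT y hy
      rw [Finset.mem_coe, Finset.mem_product]
      refine ⟨Finset.mem_univ _, ?_⟩
      rw [Finset.mem_filter]
      refine ⟨Finset.mem_univ _, half (y - x0), ?_, rfl⟩
      rw [two_smul_half]
      · exact Λ.sub_mem h.1 hx0
      · intro i
        have := h.2.1 i
        have := hx0odd i
        rw [Pi.sub_apply]
        omega
    · intro y hy y' hy' heq
      rw [Finset.mem_coe] at hy hy'
      have h := hT y hy
      have h' := hT y' hy'
      simp only [Prod.mk.injEq] at heq
      obtain ⟨hj, hr⟩ := heq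
      obtain ⟨hb, hrest⟩ := oddShape h.2.1 h.2.2
      obtain ⟨hb', hrest'⟩ := oddShape h'.2.1 h'.2.2
      rw [← hj] at hb' hrest'
      rw [red_eq_iff] at hr
      funext i
      have h3 := hr i
      simp only [Pi.sub_apply, half] at h3
      have := h.2.1 i
      have := h'.2.1 i
      have := hx0odd i
      by_cases hi : i = bigPos y
      · rw [hi] at h3 ⊢
        have := h.2.1 (bigPos y)
        have := h'.2.1 (bigPos y)
        have := hx0odd (bigPos y)
        omega
      · have := hrest i hi
        have := hrest' i hi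
        omega
  rw [Finset.card_product, Finset.card_univ, Fintype.card_fin, card_halfCode] at h1
  exact h1

end

end Cfsg.Agent.Helper9.LeechChar
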