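import Mathlib
import Cfsg.Agent.Helper9.LeechChar.CountC

/-!
The count of the vectors of norm 32 forces a vector with odd coordinates and a code of
dimension 12.
-/

set_option autoImplicit false

namespace Cfsg.Agent.Helper9.LeechChar

open Cfsg.Agent.Helper9.ShortVec

section

variable {Λ : AddSubgroup (Fin 24 → ℤ)} (hΛ : Like Λ)

include hΛ in
theorem Like.parity' {y : Fin 24 → ℤ} (hy : y ∈ Λ) :
    (∀ i, y i % 2 = 0) ∨ (∀ i, y i % 2 = 1) := by
  rcases Int.emod_two_eq_zero_or_one (y 0) with h | h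
  · left
    intro i
    have := hΛ.parity y hy i 0
    omega
  · right
    intro i
    have := hΛ.parity y hy i 0
    omega

include hΛ in
theorem odd_and_finrank :
    (∃ x0 ∈ Λ, ∀ i, x0 i % 2 = 1) ∧ Module.finrank (ZMod 2) (halfCode Λ) = 12 := by
  classical
  have hc := hΛ.count
  have fin : {y : Fin 24 → ℤ | y ∈ Λ ∧ ∑ i, y i * y i = 32}.Finite :=
    Set.finite_of_ncard_ne_zero (by rw [hc]; norm_num)
  have cT : fin.toFinset.card = 196560 := by rw [← hc, Set.ncard_eq_toFinset_card _ fin]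
  have mT : ∀ y, y ∈ fin.toFinset ↔ (y ∈ Λ ∧ ∑ i, y i * y i = 32) := fun y => by
    rw [Set.Finite.mem_toFinset, Set.mem_ofPred_eq]
  generalize fin.toFinset = T at cT mT
  set TA := T.filter (fun y => ∀ i, y i % 4 = 0) with hTA
  set TB := T.filter (fun y => (∀ i, y i % 2 = 0) ∧ ¬ ∀ i, y i % 4 = 0) with hTB
  set TC := T.filter (fun y => ∀ i, y i % 2 = 1) with hTC
  have hsub : T ⊆ TA ∪ TB ∪ TC := by
    intro y hy
    rw [Finset.mem_union, Finset.mem_union, hTA, hTB, hTC, Finset.mem_filter, Finset.mem_filter,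
      Finset.mem_filter]
    rcases hΛ.parity' ((mT y).mp hy).1 with h | h
    · by_cases h4 : ∀ i, y i % 4 = 0
      · exact Or.inl (Or.inl ⟨hy, h4⟩)
      · exact Or.inl (Or.inr ⟨hy, h, h4⟩)
    · exact Or.inr ⟨hy, h⟩
  have hA : TA.card ≤ 1104 := by
    apply countA
    intro y hy
    rw [hTA, Finset.mem_filter] at hy
    exact ⟨hy.2, ((mT y).mp hy.1).2⟩
  have hB : TB.card ≤ 97152 := by
    apply countB hΛ
    intro y hy
    rw [hTB, Finset.mem_filter] at hy
    exact ⟨((mT y).mp hy.1).1, hy.2.1, hy.2.2, ((mT y).mp hy.1).2⟩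
  have hcard : 98304 ≤ TC.card := by
    have h1 := Finset.card_le_card hsub
    have h3 := Finset.card_union_le (TA ∪ TB) TC
    have h5 := Finset.card_union_le TA TB
    omega
  have hne : TC.Nonempty := by
    rw [Finset.nonempty_iff_ne_empty]
    intro h0
    rw [h0] at hcard
    simp at hcard
  obtain ⟨x0, hx0⟩ := hne
  have hx0' := hx0
  rw [hTC, Finset.mem_filter] at hx0'
  have hx0Λ : x0 ∈ Λ := ((mT x0).mp hx0'.1).1
  refine ⟨⟨x0, hx0Λ, hx0'.2⟩, ?_⟩
  have hC : TC.card ≤ 24 * 2 ^ Module.finrank (ZMod 2) (halfCode Λ) := by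
    apply countC TC x0 hx0Λ hx0'.2
    intro y hy
    rw [hTC, Finset.mem_filter] at hy
    exact ⟨((mT y).mp hy.1).1, hy.2, ((mT y).mp hy.1).2⟩
  have hle := selfOrth_finrank_le (halfCode Λ) (halfCode_orth hΛ)
  by_contra hne12
  have h11 : Module.finrank (ZMod 2) (halfCode Λ) ≤ 11 := by omega
  have hpow : 2 ^ Module.finrank (ZMod 2) (halfCode Λ) ≤ 2 ^ 11 :=
    Nat.pow_le_pow_right (by norm_num) h11
  norm_num at hpow
  omega

end

end Cfsg.Agent.Helper9.LeechChar
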