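import Mathlib
import Cfsg.Agent.Helper9.LeechChar.CountMain
import Cfsg.Agent.Helper9.Leech.Basic

/-!
A signed permutation of the coordinates carries an additive subgroup with the properties `Like`,
whose code is the standard one, onto the lattice built from the code.
-/

set_option autoImplicit false

namespace Cfsg.Agent.Helper9.LeechChar

open Cfsg Cfsg.Agent.Helper9.ShortVec Cfsg.Agent.Helper9.Leech

/-- the signs making the odd vector congruent to 1 modulo 4. -/
def sgn (x0 : Fin 24 → ℤ) (i : Fin 24) : ℤ := if x0 i % 4 = 1 then 1 else -1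

theorem sgn_cases (x0 : Fin 24 → ℤ) (i : Fin 24) : sgn x0 i = 1 ∨ sgn x0 i = -1 := by
  unfold sgn
  split_ifs
  · exact Or.inl rfl
  · exact Or.inr rfl

theorem sgn_sq (x0 : Fin 24 → ℤ) (i : Fin 24) : sgn x0 i * sgn x0 i = 1 := by
  rcases sgn_cases x0 i with h | h <;> rw [h] <;> norm_num

theorem sgn_mul_mod {x0 : Fin 24 → ℤ} (hodd : ∀ i, x0 i % 2 = 1) (i : Fin 24) :
    (sgn x0 i * x0 i) % 4 = 1 := by
  have := hodd i
  unfold sgn
  split_ifs with h
  · omega
  · omega

/-- the signed permutation of the coordinates. -/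
def toL (x0 : Fin 24 → ℤ) (e : Fin 24 ≃ GolayPt) (y : Fin 24 → ℤ) : GolayPt → ℤ :=
  fun p => sgn x0 (e.symm p) * y (e.symm p)

/-- its inverse. -/
def ofL (x0 : Fin 24 → ℤ) (e : Fin 24 ≃ GolayPt) (z : GolayPt → ℤ) : Fin 24 → ℤ :=
  fun i => sgn x0 i * z (e i)

section basic

variable (x0 : Fin 24 → ℤ) (e : Fin 24 ≃ GolayPt)

theorem toL_apply (y : Fin 24 → ℤ) (i : Fin 24) : toL x0 e y (e i) = sgn x0 i * y i := by
  unfold toL
  rw [Equiv.symm_apply_apply]

theorem ofL_toL (y : Fin 24 → ℤ) : ofL x0 e (toL x0 e y) = y := by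
  funext i
  unfold ofL
  rw [toL_apply, ← mul_assoc, sgn_sq, one_mul]

theorem toL_ofL (z : GolayPt → ℤ) : toL x0 e (ofL x0 e z) = z := by
  funext p
  unfold toL ofL
  rw [Equiv.apply_symm_apply, ← mul_assoc, sgn_sq, one_mul]

theorem toL_add (y y' : Fin 24 → ℤ) : toL x0 e (y + y') = toL x0 e y + toL x0 e y' := by
  funext p
  simp only [toL, Pi.add_apply]
  ring

theorem ofL_add (z z' : GolayPt → ℤ) : ofL x0 e (z + z') = ofL x0 e z + ofL x0 e z' := by
  funext i
  simp only [ofL, Pi.add_apply]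
  ring

theorem sum_toL (y : Fin 24 → ℤ) : ∑ p, toL x0 e y p = ∑ i, sgn x0 i * y i := by
  rw [← Equiv.sum_comp e]
  apply Finset.sum_congr rfl
  intro i _
  rw [toL_apply]

theorem sqNorm_toL (y : Fin 24 → ℤ) : sqNorm (toL x0 e y) = ∑ i, y i * y i := by
  unfold sqNorm
  rw [← Equiv.sum_comp e]
  apply Finset.sum_congr rfl
  intro i _
  rw [toL_apply, pow_two, mul_mul_mul_comm, sgn_sq, one_mul]

end basic

section main

variable {Λ : AddSubgroup (Fin 24 → ℤ)} (hΛ : Like Λ) (x0 : Fin 24 → ℤ) (hx0 : x0 ∈ Λ)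
  (hx0odd : ∀ i, x0 i % 2 = 1) (e : Fin 24 ≃ GolayPt)
  (he : ∀ w : GolayPt → ZMod 2, w ∈ golayCode ↔ (fun i => w (e i)) ∈ halfCode Λ)

include hΛ hx0 hx0odd in
theorem even_sum {y : Fin 24 → ℤ} (hy : y ∈ Λ) (h2 : ∀ i, y i % 2 = 0) :
    (8 : ℤ) ∣ ∑ i, sgn x0 i * y i := by
  have h1 := hΛ.dot8 y hy x0 hx0
  have h3 : (8 : ℤ) ∣ ∑ i, (y i * x0 i - sgn x0 i * y i) := by
    apply Finset.dvd_sum
    intro i _
    have h5 := sgn_mul_mod hx0odd i
    have h6 := h2 i
    obtain ⟨k, hk⟩ : (2 : ℤ) ∣ y i := Int.dvd_of_emod_eq_zero h6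
    rcases sgn_cases x0 i with h | h
    · rw [h] at h5 ⊢
      obtain ⟨l, hl⟩ : (4 : ℤ) ∣ x0 i - 1 := by omega
      exact ⟨k * l, by rw [hk]; linear_combination 2 * k * hl⟩
    · rw [h] at h5 ⊢
      obtain ⟨l, hl⟩ : (4 : ℤ) ∣ x0 i + 1 := by omega
      exact ⟨k * l, by rw [hk]; linear_combination 2 * k * hl⟩
  rw [Finset.sum_sub_distrib] at h3
  exact (dvd_sub_right h1).mp h3 |> fun h => h

include he in
theorem one_mem_halfCode : (1 : Fin 24 → ZMod 2) ∈ halfCode Λ := by
  have h1 := (he 1).mp one_mem_code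
  exact h1

include hΛ hx0 hx0odd he in
theorem toL_mem_even {y : Fin 24 → ℤ} (hy : y ∈ Λ) (h2 : ∀ i, y i % 2 = 0) :
    toL x0 e y ∈ leechSet := by
  rw [mem_leechSet_iff]
  have hy2 := two_smul_half h2
  have hmem : red (half y) ∈ halfCode Λ := ⟨half y, by rw [hy2]; exact hy, rfl⟩
  refine ⟨0, ?_, ?_, ?_⟩
  · intro p
    unfold toL Int.ModEq
    have := h2 (e.symm p)
    rcases sgn_cases x0 (e.symm p) with h | h <;> rw [h] <;> omega
  · rw [sum_toL]
    obtain ⟨k, hk⟩ := even_sum hΛ x0 hx0 hx0odd hy h2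
    unfold Int.ModEq
    omega
  · intro k
    rw [he]
    have hw : ∀ i, resW (toL x0 e y) k (e i) = if y i % 4 = k % 4 then 1 else 0 := by
      intro i
      unfold resW
      rw [toL_apply]
      have := h2 i
      have h3 : (sgn x0 i * y i ≡ k [ZMOD 4]) ↔ y i % 4 = k % 4 := by
        unfold Int.ModEq
        rcases sgn_cases x0 i with h | h <;> rw [h] <;> omega
      simp only [h3]
    have hk4 : k % 4 = 0 ∨ k % 4 = 1 ∨ k % 4 = 2 ∨ k % 4 = 3 := by omega
    rcases hk4 with hk | hk | hk | hk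
    · have h5 : (fun i => resW (toL x0 e y) k (e i)) = 1 + red (half y) := by
        funext i
        rw [hw, Pi.add_apply, Pi.one_apply]
        have := h2 i
        rcases Int.emod_two_eq_zero_or_one (half y i) with h | h
        · rw [(red_eq_zero_iff _ _).mpr h, if_pos]
          · decide
          · simp only [half] at h
            omega
        · rw [(red_eq_one_iff _ _).mpr h, if_neg]
          · decide
          · simp only [half] at h
            omega
      rw [h5]
      exact add_mem (one_mem_halfCode e he) hmem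
    · have h5 : (fun i => resW (toL x0 e y) k (e i)) = 0 := by
        funext i
        rw [hw, Pi.zero_apply, if_neg]
        have := h2 i
        omega
      rw [h5]
      exact zero_mem _
    · have h5 : (fun i => resW (toL x0 e y) k (e i)) = red (half y) := by
        funext i
        rw [hw]
        have := h2 i
        rcases Int.emod_two_eq_zero_or_one (half y i) with h | h
        · rw [(red_eq_zero_iff _ _).mpr h, if_neg]
          simp only [half] at h
          omega
        · rw [(red_eq_one_iff _ _).mpr h, if_pos]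
          simp only [half] at h
          omega
      rw [h5]
      exact hmem
    · have h5 : (fun i => resW (toL x0 e y) k (e i)) = 0 := by
        funext i
        rw [hw, Pi.zero_apply, if_neg]
        have := h2 i
        omega
      rw [h5]
      exact zero_mem _

include hΛ hx0 hx0odd in
theorem toL_x0_mem : toL x0 e x0 ∈ leechSet := by
  apply Spor.mem_leechSet_of_const_mod_four (toL x0 e x0) 1 1 (Int.ModEq.refl _)
  · intro p
    unfold toL Int.ModEq
    have := sgn_mul_mod hx0odd (e.symm p)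
    omega
  · rw [sum_toL]
    have h1 := hΛ.norm16 x0 hx0
    have h3 : (16 : ℤ) ∣ ∑ i, (x0 i * x0 i - 2 * (sgn x0 i * x0 i) + 1) := by
      apply Finset.dvd_sum
      intro i _
      have h5 := sgn_mul_mod hx0odd i
      obtain ⟨l, hl⟩ : (4 : ℤ) ∣ sgn x0 i * x0 i - 1 := by omega
      have h6 := sgn_sq x0 i
      refine ⟨l * l, ?_⟩
      have h7 : x0 i * x0 i = (sgn x0 i * x0 i) * (sgn x0 i * x0 i) := by
        rw [mul_mul_mul_comm, h6, one_mul]
      rw [h7]
      linear_combination (sgn x0 i * x0 i - 1 + 4 * l) * hl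
    rw [Finset.sum_add_distrib, Finset.sum_sub_distrib, ← Finset.mul_sum] at h3
    simp only [Finset.sum_const, Finset.card_univ, Fintype.card_fin, nsmul_eq_mul] at h3
    obtain ⟨k, hk⟩ := h1
    obtain ⟨l, hl⟩ := h3
    unfold Int.ModEq
    push_cast at hl
    omega

include hΛ hx0 hx0odd he in
theorem toL_mem {y : Fin 24 → ℤ} (hy : y ∈ Λ) : toL x0 e y ∈ leechSet := by
  rcases hΛ.parity' hy with h | h
  · exact toL_mem_even hΛ x0 hx0 hx0odd e he hy h
  · have h1 : y = (y - x0) + x0 := by abel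
    rw [h1, toL_add]
    apply add_mem_leechSet _ (toL_x0_mem hΛ x0 hx0 hx0odd e)
    apply toL_mem_even hΛ x0 hx0 hx0odd e he (Λ.sub_mem hy hx0)
    intro i
    have := h i
    have := hx0odd i
    rw [Pi.sub_apply]
    omega

include hΛ hx0 hx0odd he in
theorem ofL_mem_even {z : GolayPt → ℤ} (hz : z ∈ leechSet) (h2 : ∀ p, z p % 2 = 0) :
    ofL x0 e z ∈ Λ := by
  rw [mem_leechSet_iff] at hz
  obtain ⟨m, hm1, hm2, hm3⟩ := hz
  have hm : m % 2 = 0 := by
    have h1 := hm1 (e 0)
    have h3 := h2 (e 0)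
    unfold Int.ModEq at h1
    omega
  have hsum : (8 : ℤ) ∣ ∑ p, z p := by
    unfold Int.ModEq at hm2
    omega
  obtain ⟨a, ha, hra⟩ := (he _).mp (hm3 2)
  have hodd : ∀ i, (z (e i) % 4 = 2 → a i % 2 = 1) ∧ (z (e i) % 4 = 0 → a i % 2 = 0) := by
    intro i
    have h1 := congrFun hra i
    simp only [resW] at h1
    constructor
    · intro h
      rw [if_pos (by unfold Int.ModEq; omega)] at h1
      exact (red_eq_one_iff a i).mp h1
    · intro h
      rw [if_neg (by unfold Int.ModEq; omega)] at h1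
      exact (red_eq_zero_iff a i).mp h1
  have hdiv : ∀ i, (4 : ℤ) ∣ ofL x0 e z i - 2 * a i := by
    intro i
    unfold ofL
    have h1 := hodd i
    have h3 := h2 (e i)
    rcases sgn_cases x0 i with h | h <;> rw [h] <;> omega
  choose t ht using hdiv
  have hdecomp : ofL x0 e z = (2 : ℤ) • a + (4 : ℤ) • t := by
    funext i
    have := ht i
    simp only [Pi.add_apply, Pi.smul_apply, smul_eq_mul]
    omega
  have h8a := even_sum hΛ x0 hx0 hx0odd ha (by
    intro i
    simp only [Pi.smul_apply, smul_eq_mul]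
    omega)
  have h8z : (8 : ℤ) ∣ ∑ i, sgn x0 i * ofL x0 e z i := by
    have h1 : ∑ i, sgn x0 i * ofL x0 e z i = ∑ p, z p := by
      rw [← Equiv.sum_comp e]
      apply Finset.sum_congr rfl
      intro i _
      unfold ofL
      rw [← mul_assoc, sgn_sq, one_mul]
    rw [h1]
    exact hsum
  have h4t : (8 : ℤ) ∣ 4 * ∑ i, sgn x0 i * t i := by
    have h1 : 4 * ∑ i, sgn x0 i * t i =
        ∑ i, sgn x0 i * ofL x0 e z i - ∑ i, sgn x0 i * ((2 : ℤ) • a) i := by
      rw [Finset.mul_sum, ← Finset.sum_sub_distrib]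
      apply Finset.sum_congr rfl
      intro i _
      simp only [Pi.smul_apply, smul_eq_mul]
      linear_combination (-(sgn x0 i)) * ht i
    rw [h1]
    exact dvd_sub h8z h8a
  have h2t : (2 : ℤ) ∣ ∑ i, sgn x0 i * t i := by omega
  have hsumt : (2 : ℤ) ∣ ∑ i, t i := by
    have h1 : (2 : ℤ) ∣ ∑ i, (t i - sgn x0 i * t i) := by
      apply Finset.dvd_sum
      intro i _
      rcases sgn_cases x0 i with h | h <;> rw [h]
      · exact ⟨0, by ring⟩
      · exact ⟨t i, by ring⟩
    rw [Finset.sum_sub_distrib] at h1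
    exact (dvd_sub_left h2t).mp h1
  rw [hdecomp]
  exact Λ.add_mem ha (hΛ.four_smul_mem t hsumt)

include hΛ hx0 hx0odd he in
theorem ofL_mem {z : GolayPt → ℤ} (hz : z ∈ leechSet) : ofL x0 e z ∈ Λ := by
  have hz' := hz
  rw [mem_leechSet_iff] at hz'
  obtain ⟨m, hm1, -, -⟩ := hz'
  rcases Int.emod_two_eq_zero_or_one m with hm | hm
  · apply ofL_mem_even hΛ x0 hx0 hx0odd e he hz
    intro p
    have h1 := hm1 p
    unfold Int.ModEq at h1
    omega
  · have h1 : z = (z + -(toL x0 e x0)) + toL x0 e x0 := by abel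
    rw [h1, ofL_add, ofL_toL]
    apply Λ.add_mem _ hx0
    apply ofL_mem_even hΛ x0 hx0 hx0odd e he
      (add_mem_leechSet hz (neg_mem_leechSet (toL_x0_mem hΛ x0 hx0 hx0odd e)))
    intro p
    have h3 := hm1 p
    unfold Int.ModEq at h3
    have h5 := sgn_mul_mod hx0odd (e.symm p)
    simp only [Pi.add_apply, Pi.neg_apply, toL]
    omega

end main

end Cfsg.Agent.Helper9.LeechChar
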