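import Mathlib
import Cfsg.Agent.Helper9.LeechChar.ToLeech
import Cfsg.Agent.S0375

/-!
The characterisation of the lattice built from the code by its numbers of short vectors.
-/

set_option autoImplicit false

namespace Cfsg.Agent.Helper9.LeechChar

open Cfsg Cfsg.Agent.Helper9.ShortVec Cfsg.Agent.Helper9.Leech

theorem like_toLeech {Λ : AddSubgroup (Fin 24 → ℤ)} (hΛ : Like Λ) :
    ∃ (x0 : Fin 24 → ℤ) (e : Fin 24 ≃ GolayPt),
      (∀ y ∈ Λ, toL x0 e y ∈ leechLattice) ∧ (∀ z ∈ leechLattice, ofL x0 e z ∈ Λ) := by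
  obtain ⟨⟨x0, hx0, hodd⟩, hdim⟩ := odd_and_finrank hΛ
  obtain ⟨e, he⟩ := Cfsg.Agent.S0375.result (halfCode Λ) hdim (halfCode_orth hΛ)
    (halfCode_four_dvd hΛ) (halfCode_ne_four hΛ)
  exact ⟨x0, e, fun y hy => (mem_leechLattice_iff _).mpr (toL_mem hΛ x0 hx0 hodd e he hy),
    fun z hz => ofL_mem hΛ x0 hx0 hodd e he ((mem_leechLattice_iff _).mp hz)⟩

section

variable (b : (Fin 24 → ℤ) →ₗ[ℤ] (Fin 24 → ℤ) →ₗ[ℤ] ℤ)

variable (hsymm : ∀ x y, b x y = b y x) (hpos : ∀ x, x ≠ 0 → 0 < b x x)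
  (heven : ∀ x, (2 : ℤ) ∣ b x x) (h2 : ∀ x, b x x ≠ 2)

include hsymm hpos heven h2 in
theorem leech_char_abs (h4 : {x : Fin 24 → ℤ | b x x = 4}.ncard = 196560)
    (h6 : {x : Fin 24 → ℤ | b x x = 6}.ncard = 16773120)
    (h8 : {x : Fin 24 → ℤ | b x x = 8}.ncard = 398034000) :
    ∃ f : (Fin 24 → ℤ) ≃+ leechLattice,
      ∀ x : Fin 24 → ℤ, sqNorm ((f x : leechLattice) : GolayPt → ℤ) = 8 * b x x := by
  obtain ⟨c, hcinj, hcn, hlike⟩ := exists_like b hsymm hpos heven h2 h4 h6 h8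
  obtain ⟨x0, e, h1, h3⟩ := like_toLeech hlike
  have hmem : ∀ x, c x ∈ (LinearMap.range c).toAddSubgroup := fun x =>
    (Submodule.mem_toAddSubgroup _).mpr (LinearMap.mem_range.mpr ⟨x, rfl⟩)
  let F : (Fin 24 → ℤ) →+ leechLattice :=
    { toFun := fun x => ⟨toL x0 e (c x), h1 _ (hmem x)⟩
      map_zero' := by
        apply Subtype.ext
        show toL x0 e (c 0) = 0
        rw [map_zero]
        funext p
        simp [toL]
      map_add' := by
        intro x y
        apply Subtype.ext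
        show toL x0 e (c (x + y)) = toL x0 e (c x) + toL x0 e (c y)
        rw [map_add, toL_add] }
  have hF : ∀ x, ((F x : leechLattice) : GolayPt → ℤ) = toL x0 e (c x) := fun _ => rfl
  have hbij : Function.Bijective F := by
    constructor
    · intro x y hxy
      have h5 : toL x0 e (c x) = toL x0 e (c y) := by rw [← hF, ← hF, hxy]
      have h6 := congrArg (ofL x0 e) h5
      rw [ofL_toL, ofL_toL] at h6
      exact hcinj h6
    · intro z
      have h5 := h3 z.1 z.2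
      rw [Submodule.mem_toAddSubgroup, LinearMap.mem_range] at h5
      obtain ⟨x, hx⟩ := h5
      refine ⟨x, ?_⟩
      apply Subtype.ext
      rw [hF, hx, toL_ofL]
  refine ⟨AddEquiv.ofBijective F hbij, fun x => ?_⟩
  show sqNorm ((F x : leechLattice) : GolayPt → ℤ) = _
  rw [hF, sqNorm_toL, hcn]

end

end Cfsg.Agent.Helper9.LeechChar
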